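import Cfsg.Agent.H0.TC
set_option maxRecDepth 100000
namespace H0.TCA70
open H0
noncomputable def r0 : TC.WTr := (.node (.node (.node (.node (.node (.node (.leaf [1] 0 0 false) (.leaf [13] 12 0 false)) (.leaf [7] 6 0 false)) (.node (.leaf [0, 7, 1] 42 1 false) (.leaf [10] 9 0 false))) (.node (.node (.node (.leaf [4, 8, 15, 0, 14] 46 5 true) (.leaf [11, 12, 11] 18 0 true)) (.leaf [8] 8 0 false)) (.node (.leaf [5] 4 0 false) (.leaf [10, 8, 9] 23 3 false)))) (.node (.node (.node (.node (.leaf [1] 0 0 false) (.leaf [12] 12 1 false)) (.leaf [1, 3, 0] 42 3 false)) (.node (.leaf [5] 4 0 false) (.leaf [4, 12, 7, 12] 37 1 true))) (.node (.node (.node (.leaf [0, 6, 1] 42 2 true) (.leaf [1, 14, 8, 5, 0] 46 1 false)) (.leaf [8] 8 0 false)) (.node (.leaf [4] 4 1 false) (.leaf [13] 12 0 false))))) (.node (.node (.node (.node (.node (.leaf [1] 0 0 false) (.leaf [6, 15, 10, 7] 38 1 false)) (.leaf [7] 6 0 false)) (.node (.leaf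 [2] 2 1 false) (.leaf [9] 9 1 false))) (.node (.node (.node (.leaf [3] 2 0 false) (.leaf [15] 14 0 false)) (.leaf [12, 9] 24 2 true)) (.node (.leaf [12, 14, 1, 12, 1] 47 0 true) (.leaf [11] 11 0 false)))) (.node (.node (.node (.node (.leaf [1, 1] 39 0 true) (.leaf [15] 14 0 false)) (.leaf [12, 10, 4, 12] 37 4 true)) (.node (.leaf [9, 5, 6] 31 3 true) (.leaf [9] 9 1 false))) (.node (.node (.node (.leaf [3] 2 0 false) (.leaf [14] 14 1 false)) (.leaf [7, 9, 7] 36 1 false)) (.node (.leaf [7] 6 0 false) (.leaf [6, 9, 14, 7] 38 3 true))))))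
noncomputable def r1 : TC.WTr := (.node (.node (.node (.node (.node (.node (.leaf [7, 1, 3] 42 2 false) (.leaf [12] 12 1 false)) (.leaf [7] 6 0 false)) (.node (.leaf [5] 41 0 false) (.leaf [10] 9 0 false))) (.node (.node (.node (.leaf [12, 1, 5, 12, 14] 47 3 true) (.leaf [15] 14 0 false)) (.leaf [4, 7, 7] 30 0 true)) (.node (.leaf [4] 4 1 false) (.leaf [14, 11, 12] 18 3 true)))) (.node (.node (.node (.node (.leaf [0] 0 1 false) (.leaf [12] 12 1 false)) (.leaf [8, 4, 7] 30 3 true)) (.node (.leaf [2] 41 0 true) (.leaf [9] 9 1 false))) (.node (.node (.node (.leaf [3] 2 0 false) (.leaf [7, 15, 7] 35 0 true)) (.leaf [10] 9 0 false)) (.node (.leaf [4] 4 1 false) (.leaf [1, 5, 12, 14, 1] 47 4 true))))) (.node (.node (.node (.node (.node (.leaf [1] 0 0 false) (.leaf [5, 9, 13, 6] 37 1 false)) (.leaf [6] 6 1 false)) (.node (.leaf [2] 2 1 false) (.leaf [5, 7, 4] 31 3 false))) (.node (.node (.node (.leaf [4] 41 1 true)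 (.leaf [14] 14 1 false)) (.leaf [10, 13] 24 0 false)) (.node (.leaf [3] 41 1 false) (.leaf [11] 11 0 false)))) (.node (.node (.node (.node (.leaf [3, 1, 3, 1, 3, 1, 3] 43 1 true) (.leaf [8, 5, 0, 15, 1] 46 3 false)) (.leaf [6] 6 1 false)) (.node (.leaf [12, 7, 12, 10] 37 2 true) (.leaf [11] 11 0 false))) (.node (.node (.node (.leaf [2] 2 1 false) (.leaf [14] 14 1 false)) (.leaf [8, 12] 24 1 true)) (.node (.leaf [9, 14, 7, 12] 38 4 true) (.leaf [12, 12] 17 0 false))))))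
noncomputable def tS : Tr := (.leaf (nat_lit 0x1ff05d105e7ac5afa442b166cd8b143facb4f624710ccbb46b4e150c32e97f6af21caa29d74a5e94b53c220c53ff09dc98509bb94931ecb2c225cc41ff428443ed3d6e850533c948171e03f8f2c5ca44844cf963a7d0122200bff0000000000000000000001c1c488))
noncomputable def tJ : Tr := (.leaf (nat_lit 0xd00273222231002200a00210071220120030202020110320230721300102101000017140000101000010101016101000100110000060005555555555550100))
noncomputable def tQ : Tr := (.leaf (nat_lit 0x0))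
noncomputable def tR : TC.WTr := (.node r0 r1)
def hl : List ℕ := [4, 5, 5, 4, 6, 7, 7, 6, 8, 9, 10, 10, 9, 11, 12, 13, 13, 12, 14, 15, 15, 14]
def B : List (List ℕ) := [[0, 1], [1, 0], [2, 3], [3, 2], [4, 5], [5, 4], [6, 7], [7, 6], [8, 8], [9, 10], [10, 9], [11, 11], [12, 13], [13, 12], [14, 15], [15, 14], [14, 14, 14], [12, 12, 12], [11, 13, 11, 15], [11, 12, 11, 12, 11, 12], [11, 12, 11, 13, 11, 12, 11, 13], [11, 13, 11, 13, 11, 13], [9, 9, 9, 9, 9], [10, 8, 9, 11], [8, 10, 13], [8, 9, 8, 9, 8, 9], [8, 9, 8, 10, 8, 9, 8, 10, 8, 9, 8, 10, 8, 9, 8, 10, 8, 9, 8, 10], [8, 10, 8, 10, 8, 10], [4, 4, 4, 4, 4], [6, 6, 6, 6, 6], [6, 6, 5, 8], [5, 7, 4, 10], [4, 6, 4, 6, 4, 6, 4, 6, 4, 6], [4, 6, 5, 7, 4, 6, 5, 7, 4, 6, 5, 7, 4, 6, 5, 7], [4, 7, 4, 7, 4, 7, 4, 7], [6, 14, 6, 14], [7, 9, 7, 9], [6, 13, 5, 9, 13], [7, 13, 6, 15, 10], [0, 0, 0], [2, 2, 2, 2, 2], [3, 5], [1, 3, 0, 7], [0, 2, 0, 2, 0, 2, 0, 2], [0, 2,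 1, 3, 0, 2, 1, 3, 0, 2, 1, 3, 0, 2, 1, 3], [0, 3, 0, 3, 0, 3, 0, 3, 0, 3, 0, 3, 0, 3], [0, 15, 1, 14, 8, 5], [0, 13, 0, 15, 13, 4]]
def subs : List (List ℕ) := [[4], [5], [6], [7], [8], [9], [10], [11], [12], [13], [14], [15]]
def ex : List (List ℕ) := []
def inv (x : ℕ) : ℕ := [1, 0, 3, 2, 5, 4, 7, 6, 8, 10, 9, 11, 13, 12, 15, 14].getD x 0
noncomputable def rS : ℕ → ℕ := rowOf tS (nat_lit 7) (nat_lit 127) (nat_lit 119) (nat_lit 664613997892457936451903530140172287)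
noncomputable def rJ : ℕ → ℕ := rowOf tJ (nat_lit 7) (nat_lit 127) (nat_lit 72) (nat_lit 4722366482869645213695)
noncomputable def C : TC.Cfg where
  S := look rS (nat_lit 7) (nat_lit 127)
  J := look rJ (nat_lit 4) (nat_lit 15)
  Q := lookQ tQ (nat_lit 7) (nat_lit 1) (nat_lit 1)
  R := tR.get
  hl := fun x => hl.contains x
  n := (nat_lit 7)
  M := (nat_lit 7)
  top := (nat_lit 105)
  nl := (nat_lit 16)
  need := (nat_lit 16)
  nr := (nat_lit 5)
theorem k0 : TC.chkRange C 0 1 = true := by decide +kernel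
theorem rows0 : ∀ c < (0 + 1) * 64, c < C.M → TC.chkRow C c = true :=
  TC.rows_step (TC.rows_zero C) k0
theorem main {G : Type*} [Group G] (g : ℕ → G) (hB : ∀ r ∈ B, ev g r = 1) (H : Subgroup G)
    (hH : ∀ w ∈ subs, ev g w ∈ H) :
    H.relIndex (Subgroup.closure (g '' {x | x < 16})) ≠ 0 ∧
      H.relIndex (Subgroup.closure (g '' {x | x < 16})) ≤ 7 :=
  TC.index_le C B subs ex inv hl tR.hint rfl (by decide +kernel) (by decide +kernel)
    (TC.rows_done rows0 (by decide +kernel)) g hB H hH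
end H0.TCA70
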